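import Groth.Agent.DelIll.K776.RFamI
import Groth.Agent.Lefpen.H705.ClosedPoint
import Groth.Agent.CalgA.RegBasic
import Groth.Agent.CurvesC.NormSections
import Groth.Agent.Ega4A.FlatRegular

/-!
# Charts adapted to the components of an artinian fibre

`X` proper and smooth over `R`, `Y = X ×_R A` with `A` an artinian local quotient of `R`.  The components of `Y` are
open; each of them is covered by finitely many étale charts of `X`, with a common affine open `V_c` meeting the
component, and sections over the charts inject into the sections over `V_c`.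
-/

set_option autoImplicit false
universe u

open CategoryTheory CategoryTheory.Limits AlgebraicGeometry Opposite TopologicalSpace
open Groth.Agent.Sga67.Sec
open K905.GeoX K776.RCh

namespace K859.Fam

section Alg

variable {A B B₀ : Type u} [CommRing A] [CommRing B] [CommRing B₀] [IsLocalRing A] [IsArtinianRing A]

/-- In a flat algebra over an artinian local ring with a domain as special fibre, an element which is nonzero on the
special fibre is a nonzerodivisor. -/
theorem eq_zero_of_mul_eq_zero (α : A →+* B) (hα : α.Flat) (π : B →+* B₀) (hπ : Function.Surjective π)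
    [IsDomain B₀] (hker : RingHom.ker π = (IsLocalRing.maximalIdeal A).map α) {t : B} (ht : π t ≠ 0) {s : B}
    (hs : t * s = 0) : s = 0 := by
  letI := α.toAlgebra
  haveI : Module.Flat A B := hα
  have h1 : IsSMulRegular (B ⧸ ((IsLocalRing.maximalIdeal A).map (algebraMap A B) • (⊤ : Submodule B B))) t := by
    rw [isSMulRegular_quotient_iff_mem_of_smul_mem]
    intro x hx
    rw [smul_eq_mul, Ideal.mul_top] at hx ⊢
    have h2 : (IsLocalRing.maximalIdeal A).map (algebraMap A B) = RingHom.ker π := hker.symm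
    rw [h2, RingHom.mem_ker] at hx ⊢
    rw [smul_eq_mul, map_mul] at hx
    exact (mul_eq_zero.1 hx).resolve_left ht
  have h2 := Groth.Agent.Ega4A.FlatRegular.isSMulRegular_tensor_of_pow_le_annihilator (R := A) (S := B) (N := B) h1 A
    (by
      obtain ⟨n, hn⟩ := IsArtinianRing.isNilpotent_jacobson_bot (R := A)
      refine ⟨n, ?_⟩
      rw [← IsLocalRing.jacobson_eq_maximalIdeal (⊥ : Ideal A) bot_ne_top, hn]
      exact bot_le)
  have h3 : IsSMulRegular B t := by
    have e : TensorProduct A B A ≃ₗ[B] B := TensorProduct.AlgebraTensorModule.rid A B B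
    exact (e.isSMulRegular_congr t).1 h2
  exact h3.right_eq_zero_of_smul hs

end Alg

section Top

theorem isClosedImmersion_spec {A B : Type u} [CommRing A] [CommRing B] {φ : A →+* B} (h : Function.Surjective φ) :
    IsClosedImmersion (Spec.map (CommRingCat.ofHom φ)) := IsClosedImmersion.spec_of_surjective _ h

variable {A : Type u} [CommRing A] [IsLocalRing A] [IsArtinianRing A]

theorem surjective_spec_residue : Surjective (Spec.map (CommRingCat.ofHom (IsLocalRing.residue A))) := by
  refine ⟨fun x => ?_⟩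
  have : Subsingleton (PrimeSpectrum A) := ⟨fun a b => by
    have ha : a.asIdeal.IsMaximal := inferInstance
    have hb : b.asIdeal.IsMaximal := inferInstance
    exact PrimeSpectrum.ext ((IsLocalRing.eq_maximalIdeal ha).trans (IsLocalRing.eq_maximalIdeal hb).symm)⟩
  exact ⟨(⊥ : PrimeSpectrum (IsLocalRing.ResidueField A)), Subsingleton.elim (α := PrimeSpectrum A) _ _⟩

end Top

/-- Sections over a nonempty open subset of a component form a domain. -/
theorem isDomain_sections {Y : Scheme.{u}} (hdom : ∀ y : Y, IsDomain (Y.presheaf.stalk y)) (U : Y.Opens) {Z : Set Y}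
    (hZ : IsIrreducible Z) (hUZ : (U : Set Y) ⊆ Z) {y : Y} (hy : y ∈ U) : IsDomain Γ(Y, U) := by
  haveI : IsReduced U.toScheme := by
    haveI : ∀ x : U.toScheme, _root_.IsReduced (U.toScheme.presheaf.stalk x) := by
      intro x
      haveI := Groth.Agent.CurvesC.NormSections.isDomain_stalk_opens hdom U x
      infer_instance
    exact isReduced_of_isReduced_stalk _
  haveI : IrreducibleSpace U.toScheme := by
    have : IsIrreducible (U : Set Y) := ⟨⟨y, hy⟩, hZ.2.open_subset U.2 hUZ⟩
    exact Subtype.irreducibleSpace this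
  haveI : IsIntegral U.toScheme := isIntegral_of_irreducibleSpace_of_isReduced _
  haveI : IsDomain Γ(U.toScheme, ⊤) := inferInstance
  exact (U.topIso).symm.commRingCatIsoToRingEquiv.toMulEquiv.isDomain _

section Main

variable {R : Type u} [CommRing R] {X : Scheme.{u}} (f : X ⟶ Spec (CommRingCat.of R)) [IsProper f]
  (d : ℕ) [SmoothOfRelativeDimension d f]
  {A : Type u} [CommRing A] [IsLocalRing A] [IsArtinianRing A] (φ : R →+* A) (hφ : Function.Surjective φ)
  {Y : Scheme.{u}} (g : Y ⟶ X) (q : Y ⟶ Spec (CommRingCat.of A))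
  (HP : IsPullback g q f (Spec.map (CommRingCat.ofHom φ)))
  {Y₀ : Scheme.{u}} (j : Y₀ ⟶ Y) (q₀ : Y₀ ⟶ Spec (CommRingCat.of (IsLocalRing.ResidueField A)))
  (HP₀ : IsPullback j q₀ q (Spec.map (CommRingCat.ofHom (IsLocalRing.residue A))))

include HP₀ in
/-- The restriction to an open subset meeting the component is injective. -/
theorem injective_res [Flat q] (hdom : ∀ y : Y₀, IsDomain (Y₀.presheaf.stalk y)) {Z : Set Y₀} (hZ : IsIrreducible Z)
    {W V : Y.Opens} (hW : IsAffineOpen W) (hWZ : ((j ⁻¹ᵁ W : Y₀.Opens) : Set Y₀) ⊆ Z) (h : V ≤ W)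
    {y : Y₀} (hy : j y ∈ V) : Function.Injective (resO Y h) := by
  have hα : (co q W).Flat := by
    have h1 : (q.appLE ⊤ W le_top).hom.Flat :=
      HasRingHomProperty.appLE @Flat q inferInstance ⟨⊤, isAffineOpen_top _⟩ ⟨W, hW⟩ le_top
    have h2 : ((Scheme.ΓSpecIso (CommRingCat.of A)).inv.hom).Flat :=
      RingHom.Flat.of_bijective (ConcreteCategory.bijective_of_isIso (Scheme.ΓSpecIso (CommRingCat.of A)).inv)
    exact RingHom.Flat.comp h2 h1
  have hπ := appLE_surjective HP₀ IsLocalRing.residue_surjective hW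
  have hker := appLE_ker HP₀ IsLocalRing.residue_surjective hW
  rw [IsLocalRing.ker_residue] at hker
  haveI : IsDomain Γ(Y₀, j ⁻¹ᵁ W) := isDomain_sections hdom _ hZ hWZ (h hy)
  rw [injective_iff_map_eq_zero]
  intro s hs
  obtain ⟨t, htV, hyt⟩ := hW.exists_basicOpen_le (V := V) ⟨j y, hy⟩ (h hy)
  have h1 : s |_ (Y.basicOpen t) = 0 := by
    have h2 : Y.presheaf.map (homOfLE (htV : Y.basicOpen t ≤ V)).op (resO Y h s) = s |_ (Y.basicOpen t) := by
      change (Y.presheaf.map (homOfLE htV).op) (Y.presheaf.map (homOfLE h).op s) = _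
      rw [← CommRingCat.comp_apply, ← Functor.map_comp]
      rfl
    rw [← h2, hs, map_zero]
  obtain ⟨n, hn⟩ := exists_pow_mul_eq_zero_of_res_basicOpen_eq_zero_of_isAffineOpen Y hW s t h1
  refine eq_zero_of_mul_eq_zero (co q W) hα _ hπ hker (t := t ^ n) ?_ hn
  rw [map_pow]
  refine pow_ne_zero n fun h0 => ?_
  have h3 : y ∈ Y₀.basicOpen ((j.appLE W (j ⁻¹ᵁ W) le_rfl).hom t) := by
    have h4 : j ⁻¹ᵁ Y.basicOpen t = Y₀.basicOpen (j.app W t) := Scheme.preimage_basicOpen j t
    have h5 : (j.appLE W (j ⁻¹ᵁ W) le_rfl).hom t = j.app W t := by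
      rw [Scheme.Hom.appLE_eq_app]
    rw [h5, ← h4]
    exact hyt
  rw [h0, Scheme.basicOpen_zero] at h3
  exact h3

end Main

/-- **(FM)** -/
theorem main : FamStmt.{u} := by
  intro R _ X f _ d _ A _ _ _ φ hφ Y g q HP
  -- the morphisms
  have hg : IsClosedImmersion g :=
    MorphismProperty.of_isPullback (P := @IsClosedImmersion) HP.flip (isClosedImmersion_spec hφ)
  haveI : Smooth f := SmoothOfRelativeDimension.smooth d f
  haveI : Smooth q := MorphismProperty.of_isPullback (P := @Smooth) HP inferInstance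
  haveI : IsProper q := MorphismProperty.of_isPullback (P := @IsProper) HP inferInstance
  obtain ⟨Y₀, j, q₀, HP₀⟩ : ∃ (Y₀ : Scheme.{u}) (j : Y₀ ⟶ Y)
      (q₀ : Y₀ ⟶ Spec (CommRingCat.of (IsLocalRing.ResidueField A))),
      IsPullback j q₀ q (Spec.map (CommRingCat.ofHom (IsLocalRing.residue A))) :=
    ⟨_, _, _, IsPullback.of_hasPullback _ _⟩
  have hj : IsClosedImmersion j := MorphismProperty.of_isPullback (P := @IsClosedImmersion) HP₀.flip
    (isClosedImmersion_spec IsLocalRing.residue_surjective)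
  have hjs : Surjective j := MorphismProperty.of_isPullback (P := @Surjective) HP₀.flip surjective_spec_residue
  haveI : Smooth q₀ := MorphismProperty.of_isPullback (P := @Smooth) HP₀ inferInstance
  haveI : IsProper q₀ := MorphismProperty.of_isPullback (P := @IsProper) HP₀ inferInstance
  haveI : CompactSpace Y₀ := QuasiCompact.compactSpace_of_compactSpace q₀
  haveI : IsNoetherian Y₀ := { __ := LocallyOfFiniteType.isLocallyNoetherian q₀ }
  have hdom : ∀ y : Y₀, IsDomain (Y₀.presheaf.stalk y) := fun y => by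
    haveI := Groth.Agent.Lefpen.H705.ClosedPoint.isRegularLocalRing_stalk q₀ y
    exact Groth.Agent.CalgA.RegBasic.isDomain _
  let i : Y₀ ⟶ X := j ≫ g
  haveI : IsClosedImmersion i := inferInstance
  -- the components
  let C : Type u := irreducibleComponents (Y₀ : Type u)
  haveI : Finite C := (NoetherianSpace.finite_irreducibleComponents (α := (Y₀ : Type u))).to_subtype
  letI : Fintype C := Fintype.ofFinite C
  have hO : ∀ c : C, ∃ O : X.Opens, ∀ y : Y₀, i y ∈ O ↔ y ∈ c.1 := by
    intro c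
    have h1 : IsOpen c.1 := Groth.Agent.CurvesC.NormSections.isOpen_of_mem_irreducibleComponents hdom c.2
    obtain ⟨O, hO, hOc⟩ := i.isEmbedding.isInducing.isOpen_iff.1 h1
    exact ⟨⟨O, hO⟩, fun y => by
      rw [← hOc]
      rfl⟩
  choose O hO using hO
  have hU : ∀ (c : C) (y : c.1), ∃ (U : X.Opens) (v : Fin d → Γ(X, U)), i y.1 ∈ U ∧ U ≤ O c ∧ EtCh f d U v :=
    fun c y => exists_etCh f d ((hO c y.1).2 y.2)
  choose U v hyU hUO hEt using hU
  have ht : ∀ c : C, ∃ t : Finset c.1, ∀ y ∈ c.1, ∃ x ∈ t, i y ∈ U c x := by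
    intro c
    have h1 : IsCompact c.1 := NoetherianSpace.isCompact _
    obtain ⟨t, ht⟩ := h1.elim_finite_subcover (fun x : c.1 => ((i ⁻¹ᵁ U c x : Y₀.Opens) : Set Y₀))
      (fun x => (i ⁻¹ᵁ U c x).2) (fun y hy => Set.mem_iUnion.2 ⟨⟨y, hy⟩, hyU c ⟨y, hy⟩⟩)
    refine ⟨t, fun y hy => ?_⟩
    have h2 := ht hy
    rw [Set.mem_iUnion₂] at h2
    obtain ⟨x, hx, hxy⟩ := h2
    exact ⟨x, hx, hxy⟩
  choose t ht using ht
  have hη : ∀ c : C, ∃ η ∈ c.1, ∀ V : Y₀.Opens, (∃ y ∈ c.1, y ∈ V) → η ∈ V := by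
    intro c
    have h1 : IsGenericPoint c.2.1.genericPoint c.1 := by
      have h2 := c.2.1.isGenericPoint_genericPoint_closure
      rwa [(isClosed_of_mem_irreducibleComponents c.1 c.2).closure_eq] at h2
    refine ⟨_, h1.mem, fun V hV => ?_⟩
    obtain ⟨y, hy, hyV⟩ := hV
    exact (h1.mem_open_set_iff V.2).2 ⟨y, hy, hyV⟩
  choose η hηc hηV using hη
  have hV : ∀ c : C, ∃ V : X.Opens, IsAffineOpen V ∧ i (η c) ∈ V ∧ ∀ x : t c, V ≤ U c x.1 := by
    intro c
    have h1 : i (η c) ∈ (⨅ x : t c, U c x.1 : X.Opens) := by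
      rw [← SetLike.mem_coe, Opens.coe_iInf, Set.mem_iInter]
      intro x
      exact hηV c (i ⁻¹ᵁ U c x.1) ⟨x.1.1, x.1.2, hyU c x.1⟩
    obtain ⟨V, hV, hηV', hVU⟩ := exists_isAffineOpen_mem_and_subset h1
    exact ⟨V, hV, hηV', fun x => le_trans hVU (iInf_le _ x)⟩
  choose V hVaff hVη hVU using hV
  have hne : ∀ c, Nonempty (t c) := fun c => by
    obtain ⟨x, hx, -⟩ := ht c (η c) (hηc c)
    exact ⟨⟨x, hx⟩⟩
  have hiU : ∀ (c : C) (x : t c) (y : Y₀), i y ∈ U c x.1 → y ∈ c.1 := fun c x y hy => (hO c y).1 (hUO c x.1 hy)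
  refine ⟨C, inferInstance, fun c => t c, fun c => inferInstance, hne, fun c x => U c x.1, fun c x => v c x.1, V,
    hVU, fun c x => hEt c x.1, hVaff, fun c => ⟨j (η c), hVη c⟩, ?_, ?_, ?_⟩
  · rw [eq_top_iff]
    intro y _
    obtain ⟨y, rfl⟩ := hjs.surj y
    obtain ⟨x, hx, hxy⟩ := ht ⟨irreducibleComponent y, irreducibleComponent_mem_irreducibleComponents y⟩ y
      mem_irreducibleComponent
    rw [Opens.mem_iSup]
    exact ⟨⟨_, ⟨x, hx⟩⟩, hxy⟩
  · intro c c' x x' hcc
    rw [eq_bot_iff]
    intro y hy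
    obtain ⟨y, rfl⟩ := hjs.surj y
    exact (hcc (Subtype.ext (Groth.Agent.CurvesC.NormSections.eq_of_mem_of_mem (hdom y) c.2 c'.2
      (hiU c x y hy.1) (hiU c' x' y hy.2)))).elim
  · intro c x W hW hWU h hVW
    exact injective_res q j q₀ HP₀ hdom (Z := c.1) c.2.1 (hW.preimage g)
      (fun y hy => hiU c x y (hWU hy)) h (y := η c) (hVη c)

end K859.Fam
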